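import Groth.Agent.TwistX.Triv
import Groth.Agent.InvX.GenEpi
import Groth.Agent.ProjUPX.Affine

/-!
# Powers of degree one elements generate `O(n)`
-/

universe u

open CategoryTheory AlgebraicGeometry TopologicalSpace Opposite

set_option backward.isDefEq.respectTransparency false
set_option backward.isDefEq.respectTransparency.types false

namespace Groth.Agent.TwistX

open Groth.Agent

variable {R A : Type u} [CommRing R] [CommRing A] [Algebra R A]
  {𝒜 : ℕ → Submodule R A} [GradedAlgebra 𝒜]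

theorem isFrame_fracSect {m : ℤ} {U : (Proj 𝒜).Opens} (φ : UnitFrac (𝒜 := 𝒜) m U) :
    InvX.IsFrame (M := Twist.twist 𝒜 m) (U := U) (fracSect φ) := fun _ hV =>
  trivMap_bijective (φ.res hV)

theorem isFrame_res_globalOf {n : ℕ} {a : A} (ha : a ∈ 𝒜 n) {U : (Proj 𝒜).Opens}
    (hU : NonVan (𝒜 := 𝒜) a U) :
    InvX.IsFrame (AModX.res (Twist.twist 𝒜 (n : ℤ)) (le_top : U ≤ ⊤) (Twist.globalOf 𝒜 ⟨a, ha⟩)) :=
  isFrame_fracSect (m := (n : ℤ))
    { i := n, j := 0, num := a, den := 1, num_mem := ha, den_mem := SetLike.GradedOne.one_mem,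
      deg := by simp, num_ne := hU,
      den_ne := fun x h => x.1.isPrime.ne_top ((Ideal.eq_top_iff_one _).mpr h) }

theorem generatedBy_pow {κ : Type*} (g : κ → A) (hg : ∀ j, g j ∈ 𝒜 1)
    (hcov : ⨆ j, Proj.basicOpen 𝒜 (g j) = ⊤) (n : ℕ) :
    ProjUP.GeneratedBy (Twist.twist 𝒜 (n : ℤ)) fun j =>
      Twist.globalOf 𝒜 ⟨g j ^ n, by simpa using SetLike.pow_mem_graded n (hg j)⟩ :=
  ProjUPX.generatedBy_of_frames _ fun x => by
    obtain ⟨j, hj⟩ := Opens.mem_iSup.1 (hcov.ge (trivial : x ∈ (⊤ : (Proj 𝒜).Opens)))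
    exact ⟨j, Proj.basicOpen 𝒜 (g j), hj,
      isFrame_res_globalOf _ fun y => notMem_pow (show g j ∉ y.1.asHomogeneousIdeal from y.2) n⟩

end Groth.Agent.TwistX
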